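import Mathlib

/-!
# Field-theoretic lemmas for relative Noether normalization
-/

universe u

set_option linter.style.haveILetI false

namespace Groth.FlatMor2.RelNoether

open Polynomial in
/-- A polynomial relation of bounded multidegree makes `x₀` algebraic over the transformed
coordinates `x_j - x₀ ^ (N + 1) ^ j`. -/
theorem isAlgebraic_transform {k L : Type u} [Field k] [Field L] [Algebra k L] {n N : ℕ}
    (x : Fin (n + 1) → L) (f : MvPolynomial (Fin (n + 1)) k) (hf : f ≠ 0)
    (hdeg : ∀ α ∈ f.support, ∀ i, α i ≤ N) (h0 : MvPolynomial.aeval x f = 0) :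
    IsAlgebraic (IntermediateField.adjoin k
      (Set.range fun j : Fin n => x j.succ - x 0 ^ (N + 1) ^ ((j.succ : Fin (n + 1)) : ℕ))) (x 0) := by
  classical
  set K := IntermediateField.adjoin k
    (Set.range fun j : Fin n => x j.succ - x 0 ^ (N + 1) ^ ((j.succ : Fin (n + 1)) : ℕ))
  let x' : Fin n → K := fun j => ⟨x j.succ - x 0 ^ (N + 1) ^ ((j.succ : Fin (n + 1)) : ℕ),
    IntermediateField.subset_adjoin _ _ ⟨j, rfl⟩⟩
  let T : Fin (n + 1) → K[X] :=
    Fin.cases X fun j => C (x' j) + X ^ (N + 1) ^ ((j.succ : Fin (n + 1)) : ℕ)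
  have hT : ∀ i, Polynomial.aeval (x 0) (T i) = x i ∧ (T i).Monic ∧
      (T i).natDegree = (N + 1) ^ (i : ℕ) := by
    intro i
    induction i using Fin.cases with
    | zero => exact ⟨by simp [T], by simp [T, monic_X], by simp [T]⟩
    | succ j =>
      have hpos : (N + 1) ^ ((j.succ : Fin (n + 1)) : ℕ) ≠ 0 := (Nat.pow_pos (Nat.succ_pos N)).ne'
      refine ⟨?_, ?_, ?_⟩
      · simp only [T, Fin.cases_succ, map_add, map_pow, aeval_C, aeval_X]
        exact sub_add_cancel _ _
      · simp only [T, Fin.cases_succ]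
        rw [add_comm]
        exact monic_X_pow_add_C _ hpos
      · simp only [T, Fin.cases_succ]
        rw [add_comm, natDegree_X_pow_add_C]
  let w : (Fin (n + 1) →₀ ℕ) → ℕ := fun α => ∑ i, α i * (N + 1) ^ (i : ℕ)
  have hw : Set.InjOn w f.support := by
    intro α hα β hβ h
    let a : Fin (n + 1) → Fin (N + 1) := fun i => ⟨α i, Nat.lt_succ_of_le (hdeg α hα i)⟩
    let b : Fin (n + 1) → Fin (N + 1) := fun i => ⟨β i, Nat.lt_succ_of_le (hdeg β hβ i)⟩
    have hab : finFunctionFinEquiv a = finFunctionFinEquiv b := Fin.ext (by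
      simp only [finFunctionFinEquiv_apply]
      exact h)
    ext i
    exact congrArg Fin.val (congrFun (finFunctionFinEquiv.injective hab) i)
  have hmon : ∀ α : Fin (n + 1) →₀ ℕ, (∏ i, T i ^ α i).Monic :=
    fun α => monic_prod_of_monic _ _ fun i _ => (hT i).2.1.pow _
  have hnd : ∀ α : Fin (n + 1) →₀ ℕ, (∏ i, T i ^ α i).natDegree = w α := fun α => by
    rw [natDegree_prod_of_monic _ _ fun i _ => (hT i).2.1.pow _]
    refine Finset.sum_congr rfl fun i _ => ?_
    rw [(hT i).2.1.natDegree_pow, (hT i).2.2]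
  let g : K[X] := ∑ α ∈ f.support, C (algebraMap k K (f.coeff α)) * ∏ i, T i ^ α i
  obtain ⟨α₀, hα₀, hmax⟩ := f.support.exists_max_image w (by simpa using hf)
  have hcoeff : g.coeff (w α₀) = algebraMap k K (f.coeff α₀) := by
    simp only [g, finsetSum_coeff, coeff_C_mul]
    rw [Finset.sum_eq_single α₀]
    · rw [← hnd α₀, (hmon α₀).coeff_natDegree, mul_one]
    · intro α hα hne
      rw [coeff_eq_zero_of_natDegree_lt (by
        rw [hnd]
        exact lt_of_le_of_ne (hmax α hα) fun h => hne (hw hα hα₀ h)), mul_zero]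
    · exact fun h => absurd hα₀ h
  refine ⟨g, fun hg => MvPolynomial.mem_support_iff.1 hα₀ ?_, ?_⟩
  · rw [hg, coeff_zero, eq_comm] at hcoeff
    exact (map_eq_zero _).1 hcoeff
  · rw [← h0, MvPolynomial.aeval_def, MvPolynomial.eval₂_eq', map_sum]
    refine Finset.sum_congr rfl fun α _ => ?_
    rw [map_mul, map_prod, aeval_C, ← IsScalarTower.algebraMap_apply k K L]
    congr 1
    exact Finset.prod_congr rfl fun i _ => by rw [map_pow, (hT i).1]

/-- The span of the monomials in `y` with all exponents at most `M`. -/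
noncomputable def boxSpan (k : Type u) {L : Type u} [Field k] [Field L] [Algebra k L] {s : ℕ}
    (y : Fin s → L) (M : ℕ) : Submodule k L :=
  Submodule.span k (Set.range fun β : Fin s → Fin (M + 1) => ∏ t, y t ^ (β t : ℕ))

variable {R k L : Type u} [CommRing R] [Field k] [Field L] [Algebra k L] {s : ℕ} (y : Fin s → L) (g : R →+* k)

theorem eval_mem_boxSpan (p : MvPolynomial (Fin s) R) {M : ℕ} (hp : p.totalDegree ≤ M) :
    MvPolynomial.eval₂Hom ((algebraMap k L).comp g) y p ∈ boxSpan k y M := by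
  classical
  rw [MvPolynomial.coe_eval₂Hom, MvPolynomial.eval₂_eq']
  refine Submodule.sum_mem _ fun α hα => ?_
  rw [RingHom.comp_apply, ← Algebra.smul_def]
  refine Submodule.smul_mem _ _ (Submodule.subset_span ?_)
  have hle : ∀ t, α t ≤ M := fun t =>
    (MvPolynomial.monomial_le_degreeOf t hα).trans ((MvPolynomial.degreeOf_le_totalDegree p t).trans hp)
  exact ⟨fun t => ⟨α t, Nat.lt_succ_of_le (hle t)⟩, rfl⟩

/-- Powers of an integral element reduce to low powers with coefficient degrees growing linearly. -/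
theorem exists_pow_coeff (Φ : Polynomial (MvPolynomial (Fin s) R)) (hΦ : Φ.Monic)
    (hpos : 0 < Φ.natDegree) (D : ℕ) (hD : ∀ j, (Φ.coeff j).totalDegree ≤ D) (v : L)
    (hv : Φ.eval₂ (MvPolynomial.eval₂Hom ((algebraMap k L).comp g) y) v = 0) (a : ℕ) :
    ∃ c : Fin Φ.natDegree → MvPolynomial (Fin s) R, (∀ b, (c b).totalDegree ≤ a * D) ∧
      v ^ a = ∑ b : Fin Φ.natDegree,
        MvPolynomial.eval₂Hom ((algebraMap k L).comp g) y (c b) * v ^ (b : ℕ) := by
  classical
  set ev := MvPolynomial.eval₂Hom ((algebraMap k L).comp g) y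
  obtain ⟨e, he⟩ := Nat.exists_eq_succ_of_ne_zero hpos.ne'
  have hve : v ^ Φ.natDegree = -∑ b : Fin Φ.natDegree, ev (Φ.coeff b) * v ^ (b : ℕ) := by
    rw [Polynomial.eval₂_eq_sum_range, Finset.sum_range_succ, hΦ.coeff_natDegree, map_one, one_mul,
      Finset.sum_range (f := fun b => ev (Φ.coeff b) * v ^ b)] at hv
    exact eq_neg_of_add_eq_zero_right hv
  induction a with
  | zero =>
    refine ⟨fun b => if (b : ℕ) = 0 then 1 else 0, fun b => by dsimp only; split <;> simp, ?_⟩
    rw [Finset.sum_eq_single ⟨0, hpos⟩ (fun b _ hb => by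
      dsimp only
      rw [if_neg (show ¬((b : ℕ) = 0) from fun h => hb (Fin.ext h)), map_zero, zero_mul]) (fun h => absurd (Finset.mem_univ _) h)]
    simp
  | succ a ih =>
    obtain ⟨c, hc, hva⟩ := ih
    let c' : Fin Φ.natDegree → MvPolynomial (Fin s) R := fun b =>
      (if h : (b : ℕ) = 0 then 0 else c ⟨b - 1, by omega⟩) - c ⟨e, by omega⟩ * Φ.coeff b
    refine ⟨c', fun b => ?_, ?_⟩
    · refine (MvPolynomial.totalDegree_sub _ _).trans (max_le ?_ ?_)
      · split
        · simp
        · exact (hc _).trans (Nat.mul_le_mul_right _ (Nat.le_succ a))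
      · refine (MvPolynomial.totalDegree_mul _ _).trans ?_
        rw [Nat.succ_mul]
        exact add_le_add (hc _) (hD _)
    · rw [pow_succ, hva, Finset.sum_mul]
      simp only [mul_assoc, ← pow_succ]
      have hsplit : ∀ F : Fin Φ.natDegree → L, ∑ b, F b =
          (∑ b : Fin e, F ⟨b, by omega⟩) + F ⟨e, by omega⟩ := by
        intro F
        rw [← (finCongr he.symm).sum_comp F, Fin.sum_univ_castSucc]
        rfl
      rw [hsplit]
      show _ + ev (c ⟨e, _⟩) * v ^ (e + 1) = _
      rw [show e + 1 = Φ.natDegree from he.symm, hve, mul_neg, Finset.mul_sum]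
      simp only [c', map_sub, map_mul, sub_mul, Finset.sum_sub_distrib, ← mul_assoc, ← sub_eq_add_neg]
      congr 1
      rw [← (finCongr he.symm).sum_comp (fun b : Fin Φ.natDegree =>
        ev (if h : (b : ℕ) = 0 then 0 else c ⟨b - 1, by omega⟩) * v ^ (b : ℕ)), Fin.sum_univ_succ]
      simp

/-- Products of powers of integral elements times polynomials stay in a small span. -/
theorem exists_bounded_relation {n e D G : ℕ} (hs : s < n) (x : Fin n → L)
    (Φ : Fin n → Polynomial (MvPolynomial (Fin s) R)) (hΦ : ∀ j, (Φ j).Monic)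
    (he : ∀ j, (Φ j).natDegree ≤ e) (hD : ∀ j i, ((Φ j).coeff i).totalDegree ≤ D)
    (γ : MvPolynomial (Fin s) R) (hG : γ.totalDegree ≤ G)
    (hγ : MvPolynomial.eval₂Hom ((algebraMap k L).comp g) y γ ≠ 0)
    (hroot : ∀ j, (Φ j).eval₂ (MvPolynomial.eval₂Hom ((algebraMap k L).comp g) y)
      (MvPolynomial.eval₂Hom ((algebraMap k L).comp g) y γ * x j) = 0)
    (N : ℕ) (hN : (n * (D + G) + 1) ^ s * e ^ n ≤ N) :
    ∃ f : MvPolynomial (Fin n) k, f ≠ 0 ∧ (∀ α ∈ f.support, ∀ i, α i ≤ N) ∧
      MvPolynomial.aeval x f = 0 := by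
  classical
  set ev := MvPolynomial.eval₂Hom ((algebraMap k L).comp g) y
  have hpos : ∀ j, 0 < (Φ j).natDegree := fun j => by
    by_contra h
    have h1 : Φ j = 1 := Polynomial.eq_one_of_monic_natDegree_zero (hΦ j) (by omega)
    have := hroot j
    rw [h1, Polynomial.eval₂_one] at this
    exact one_ne_zero this
  let v : Fin n → L := fun j => ev γ * x j
  let M := n * (D + G) * N
  let V : Set L := Set.range fun p : (Fin s → Fin (M + 1)) × (Fin n → Fin e) =>
    (∏ t, y t ^ (p.1 t : ℕ)) * ∏ j, v j ^ (p.2 j : ℕ)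
  have hmem : ∀ α : Fin n → Fin (N + 1),
      ev γ ^ (n * N) * ∏ j, x j ^ (α j : ℕ) ∈ Submodule.span k V := by
    intro α
    choose c hc hva using fun j => exists_pow_coeff y g (Φ j) (hΦ j) (hpos j) D (hD j) (v j) (hroot j) (α j)
    have hsum : ∑ j, (α j : ℕ) ≤ n * N :=
      (Finset.sum_le_card_nsmul _ _ N fun j _ => Nat.lt_succ_iff.1 (α j).2).trans (by simp)
    have heq : ev γ ^ (n * N) * ∏ j, x j ^ (α j : ℕ) =
        ev γ ^ (n * N - ∑ j, (α j : ℕ)) * ∏ j, v j ^ (α j : ℕ) := by
      simp only [v, mul_pow, Finset.prod_mul_distrib, Finset.prod_pow_eq_pow_sum]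
      rw [← mul_assoc, ← pow_add, Nat.sub_add_cancel hsum]
    rw [heq, Finset.prod_congr rfl fun j _ => hva j, Fintype.prod_sum, Finset.mul_sum]
    refine Submodule.sum_mem _ fun b _ => ?_
    rw [Finset.prod_mul_distrib, ← map_prod, ← map_pow, ← mul_assoc, ← map_mul]
    have h1 := eval_mem_boxSpan y g (γ ^ (n * N - ∑ j, (α j : ℕ)) * ∏ j, c j (b j)) (M := M) (by
      refine (MvPolynomial.totalDegree_mul _ _).trans ((add_le_add (MvPolynomial.totalDegree_pow _ _)
        (MvPolynomial.totalDegree_finset_prod _ _)).trans ?_)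
      refine (add_le_add (Nat.mul_le_mul (Nat.sub_le _ _) hG) (Finset.sum_le_card_nsmul _ _ (N * D) fun j _ =>
        (hc j (b j)).trans (Nat.mul_le_mul_right _ (Nat.lt_succ_iff.1 (α j).2)))).trans ?_
      simp only [Finset.card_univ, Fintype.card_fin, smul_eq_mul, M]
      rw [Nat.mul_add, Nat.add_mul, add_comm]
      apply add_le_add <;> (apply le_of_eq; ring))
    have hle : boxSpan k y M ≤ (Submodule.span k V).comap
        (LinearMap.mulRight k (∏ j, v j ^ (b j : ℕ))) := Submodule.span_le.2 (by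
      rintro _ ⟨β, rfl⟩
      exact Submodule.subset_span ⟨(β, fun j => ⟨b j, lt_of_lt_of_le (b j).2 (he j)⟩), rfl⟩)
    exact hle h1
  by_contra hcon
  push Not at hcon
  let mon : (Fin n → Fin (N + 1)) → L := fun α => ev γ ^ (n * N) * ∏ j, x j ^ (α j : ℕ)
  have hli : LinearIndependent k mon := by
    rw [Fintype.linearIndependent_iff]
    intro c hc α₀
    by_contra hne
    let ι : (Fin n → Fin (N + 1)) → (Fin n →₀ ℕ) := fun α => Finsupp.equivFunOnFinite.symm fun j => (α j : ℕ)
    have hι : Function.Injective ι := fun a b h => funext fun j => Fin.ext (DFunLike.congr_fun h j)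
    let f : MvPolynomial (Fin n) k := ∑ α, MvPolynomial.monomial (ι α) (c α)
    have hf0 : f ≠ 0 := fun h => hne (by
      have := congrArg (MvPolynomial.coeff (ι α₀)) h
      simpa [f, MvPolynomial.coeff_sum, MvPolynomial.coeff_monomial, hι.eq_iff] using this)
    refine hcon f hf0 (fun α hα i => ?_) ?_
    · obtain ⟨β, -, hβ⟩ := Finset.mem_biUnion.1 (MvPolynomial.support_sum hα)
      obtain rfl : α = ι β := Finset.mem_singleton.1 (MvPolynomial.support_monomial_subset hβ)
      exact Nat.lt_succ_iff.1 (β i).2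
    · have h2 : ev γ ^ (n * N) * MvPolynomial.aeval x f = 0 := by
        rw [← hc, map_sum, Finset.mul_sum]
        refine Finset.sum_congr rfl fun α _ => ?_
        rw [MvPolynomial.aeval_monomial, Finsupp.prod_fintype _ _ fun j => pow_zero _, Algebra.smul_def]
        simp only [mon, ι, Finsupp.equivFunOnFinite_symm_apply_apply]
        ring
      exact (mul_eq_zero.1 h2).resolve_left (pow_ne_zero _ hγ)
  haveI : Finite V := Set.finite_range _ |>.to_subtype
  cases nonempty_fintype V
  let mon' : (Fin n → Fin (N + 1)) → Submodule.span k V := fun α => ⟨mon α, hmem α⟩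
  haveI : Module.Finite k (Submodule.span k V) := Module.Finite.span_of_finite k (Set.toFinite V)
  have hcard := (LinearIndependent.of_comp (Submodule.span k V).subtype (v := mon') hli).fintype_card_le_finrank
  have hspan : Module.finrank k (Submodule.span k V) ≤ Fintype.card V :=
    (finrank_span_le_card V).trans (le_of_eq (Set.toFinset_card V))
  have hV : Fintype.card V ≤ (M + 1) ^ s * e ^ n := by
    refine (Fintype.card_le_of_surjective _ Set.rangeFactorization_surjective).trans ?_
    simp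
  simp only [Fintype.card_fun, Fintype.card_fin] at hcard
  have h3 : (M + 1) ^ s * e ^ n < (N + 1) ^ n := by
    calc (M + 1) ^ s * e ^ n ≤ ((n * (D + G) + 1) * (N + 1)) ^ s * e ^ n := by
          refine Nat.mul_le_mul_right _ (Nat.pow_le_pow_left ?_ _)
          simp only [M]; ring_nf; omega
      _ = (n * (D + G) + 1) ^ s * e ^ n * (N + 1) ^ s := by rw [mul_pow]; ring
      _ < (N + 1) * (N + 1) ^ s :=
          Nat.mul_lt_mul_of_pos_right (Nat.lt_succ_of_le hN) (Nat.pow_pos (Nat.succ_pos N))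
      _ = (N + 1) ^ (s + 1) := by ring
      _ ≤ (N + 1) ^ n := Nat.pow_le_pow_right (Nat.succ_pos N) hs
  omega

end Groth.FlatMor2.RelNoether
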