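import Groth.Agent.FlatMor2.RelNoether.Field
import Groth.Agent.FlatMor2.TrdegFibre
import Groth.Agent.FibreDim.Algebra

/-!
# Weak relative Noether normalization
-/

universe u

open Polynomial

set_option linter.style.haveILetI false
set_option synthInstance.maxHeartbeats 400000

namespace Groth.FlatMor2.RelNoether

variable {R S : Type u} [CommRing R] [CommRing S] [Algebra R S]

variable (R) in
/-- On every fibre, all elements are algebraic over the elements `x`. -/
def AlgOver {n : ℕ} (x : Fin n → S) : Prop :=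
  ∀ (k L : Type u) [Field k] [Field L] [Algebra k L] (g : R →+* k) (ψ : S →+* L),
    (∀ r, ψ (algebraMap R S r) = algebraMap k L (g r)) →
    ∀ c : S, IsAlgebraic (IntermediateField.adjoin k (Set.range fun i => ψ (x i))) (ψ c)

theorem algOver_of_adjoin_eq_top {n : ℕ} (x : Fin n → S) (hx : Algebra.adjoin R (Set.range x) = ⊤) :
    AlgOver R x := by
  intro k L _ _ _ g ψ hψ c
  have hc : c ∈ Algebra.adjoin R (Set.range x) := hx ▸ Algebra.mem_top
  suffices ψ c ∈ IntermediateField.adjoin k (Set.range fun i => ψ (x i)) from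
    isAlgebraic_algebraMap (⟨ψ c, this⟩ : IntermediateField.adjoin k (Set.range fun i => ψ (x i)))
  induction hc using Algebra.adjoin_induction with
  | mem c hc => obtain ⟨i, rfl⟩ := hc; exact IntermediateField.subset_adjoin _ _ ⟨i, rfl⟩
  | algebraMap r => rw [hψ]; exact IntermediateField.algebraMap_mem _ _
  | add a b _ _ ha hb => rw [map_add]; exact add_mem ha hb
  | mul a b _ _ ha hb => rw [map_mul]; exact mul_mem ha hb

theorem algOver_pad {n d : ℕ} (x : Fin n → S) (hx : AlgOver R x) (h : n ≤ d) :
    AlgOver R (fun i : Fin d => if h' : (i : ℕ) < n then x ⟨i, h'⟩ else 0) := by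
  intro k L _ _ _ g ψ hψ c
  have hle : IntermediateField.adjoin k (Set.range fun i => ψ (x i)) ≤ IntermediateField.adjoin k
      (Set.range fun i : Fin d => ψ (if h' : (i : ℕ) < n then x ⟨i, h'⟩ else 0)) :=
    IntermediateField.adjoin.mono _ _ _ (by
      rintro _ ⟨i, rfl⟩
      exact ⟨⟨i, lt_of_lt_of_le i.2 h⟩, by simp [i.2]⟩)
  obtain ⟨P, hP0, hP⟩ := hx k L g ψ hψ c
  refine ⟨P.map (IntermediateField.inclusion hle).toRingHom,
    (Polynomial.map_ne_zero_iff (IntermediateField.inclusion hle).toRingHom.injective).2 hP0, ?_⟩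
  rw [Polynomial.aeval_def, Polynomial.eval₂_map]
  exact hP

variable [Algebra.FiniteType R S]

/-- Elements whose residues generate all fibres up to algebraic extensions give a quasi-finite map. -/
theorem quasiFinite_of_algOver {n : ℕ} (x : Fin n → S) (hx : AlgOver R x) :
    (MvPolynomial.aeval (R := R) x).toRingHom.QuasiFinite := by
  let P := MvPolynomial (Fin n) R
  letI : Algebra P S := (MvPolynomial.aeval (R := R) x).toRingHom.toAlgebra
  haveI : IsScalarTower R P S :=
    IsScalarTower.of_algebraMap_eq fun r => ((MvPolynomial.aeval x).commutes r).symm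
  haveI : Algebra.FiniteType P S := .of_restrictScalars_finiteType R _ _
  show Algebra.QuasiFinite P S
  refine ⟨fun p _ => ?_⟩
  let κ := p.ResidueField
  let F := p.Fiber S
  haveI : IsNoetherianRing F := Algebra.FiniteType.isNoetherianRing κ F
  have halg : ∀ T : Ideal F, T.IsPrime → Algebra.IsAlgebraic κ (F ⧸ T) := by
    intro T hT
    let L := T.ResidueField
    let k := (p.comap (algebraMap R P)).ResidueField
    let ι : k →+* κ := Ideal.ResidueField.map (p.comap (algebraMap R P)) p (algebraMap R P) rfl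
    let eL : κ →+* L := (algebraMap F L).comp (algebraMap κ F)
    letI : Algebra k L := (eL.comp ι).toAlgebra
    let ψ : S →+* L := (algebraMap F L).comp (Algebra.TensorProduct.includeRight (R := P)).toRingHom
    have hψ : ∀ f : P, ψ (algebraMap P S f) = eL (algebraMap P κ f) := fun f => by
      show algebraMap F L (Algebra.TensorProduct.includeRight (algebraMap P S f)) = _
      rw [(Algebra.TensorProduct.includeRight (R := P) (A := κ) (B := S)).commutes f,
        IsScalarTower.algebraMap_apply P κ F]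
      rfl
    have hψR : ∀ r, ψ (algebraMap R S r) = algebraMap k L (algebraMap R k r) := fun r => by
      rw [IsScalarTower.algebraMap_apply R P S, hψ]
      show eL _ = eL (ι (algebraMap R k r))
      rw [Ideal.ResidueField.map_algebraMap]
    let K : Subfield L := eL.fieldRange
    let θ : κ →+* K := eL.rangeRestrictField
    have hθ : Function.Bijective θ := eL.rangeRestrictFieldEquiv.bijective
    have hK : ∀ w ∈ IntermediateField.adjoin k (Set.range fun i => ψ (x i)), w ∈ K := by
      intro w hw
      induction hw using IntermediateField.adjoin_induction with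
      | mem w hw =>
        obtain ⟨i, rfl⟩ := hw
        exact ⟨algebraMap P κ (MvPolynomial.X i), by
          rw [← hψ]; exact congrArg ψ (MvPolynomial.aeval_X x i)⟩
      | algebraMap c => exact ⟨ι c, rfl⟩
      | add a b _ _ ha hb => exact add_mem ha hb
      | inv a _ ha => exact inv_mem ha
      | mul a b _ _ ha hb => exact mul_mem ha hb
    let j : IntermediateField.adjoin k (Set.range fun i => ψ (x i)) →+* κ :=
      (eL.rangeRestrictFieldEquiv.symm.toRingHom).comp
        ((SubringClass.subtype (IntermediateField.adjoin k (Set.range fun i => ψ (x i)))).codRestrict K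
          fun w => hK w w.2)
    have hj : ∀ w, eL (j w) = w.1 := fun w =>
      congrArg Subtype.val (eL.rangeRestrictFieldEquiv.apply_symm_apply _)
    refine ⟨fun z => ?_⟩
    obtain ⟨z, rfl⟩ := Ideal.Quotient.mk_surjective z
    induction z using TensorProduct.induction_on with
    | zero => rw [map_zero]; exact isAlgebraic_zero
    | add a b ha hb => rw [map_add]; exact IsAlgebraic.add (R := κ) (S := F ⧸ T) ha hb
    | tmul c s =>
      rw [show (c ⊗ₜ[P] s : F) = algebraMap κ F c * (1 ⊗ₜ[P] s) by
        rw [Algebra.TensorProduct.algebraMap_apply, Algebra.TensorProduct.tmul_mul_tmul, mul_one, one_mul,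
          Algebra.algebraMap_self, RingHom.id_apply], map_mul,
        ← Ideal.Quotient.algebraMap_eq, ← IsScalarTower.algebraMap_apply κ F (F ⧸ T)]
      refine IsAlgebraic.mul (R := κ) (S := F ⧸ T) (isAlgebraic_algebraMap c) ?_
      obtain ⟨Q, hQ0, hQ⟩ := hx k L (algebraMap R k) ψ hψR s
      refine ⟨Q.map j, (Polynomial.map_ne_zero_iff j.injective).2 hQ0, ?_⟩
      apply (IsFractionRing.injective (F ⧸ T) L)
      rw [map_zero, Polynomial.aeval_def, Polynomial.eval₂_map, Polynomial.hom_eval₂]
      refine Eq.trans ?_ hQ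
      rw [Polynomial.aeval_def]
      congr 1
      · refine RingHom.ext fun w => ?_
        refine Eq.trans ?_ (hj w)
        simp only [RingHom.comp_apply, eL]
        rw [IsScalarTower.algebraMap_apply κ F (F ⧸ T), ← IsScalarTower.algebraMap_apply F (F ⧸ T) L]
  haveI : Ring.KrullDimLE 0 F := Ring.krullDimLE_zero_iff.2 fun T hT => by
    obtain ⟨M, hM, hTM⟩ := Ideal.exists_le_maximal T hT.ne_top
    rcases hTM.eq_or_lt with rfl | hlt
    · exact hM
    · exfalso
      have h := Groth.FlatMor2.TrdegFibre.trdeg_quotient_add_one_le (k := κ) T M hlt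
      haveI := halg T hT
      rw [trdeg_eq_zero (R := κ) (A := F ⧸ T)] at h
      exact one_ne_zero (le_antisymm (le_trans le_add_self h) bot_le)
  haveI : IsArtinianRing F := isArtinianRing_iff_isNoetherianRing_krullDimLE_zero.2 ⟨inferInstance, inferInstance⟩
  exact (Module.finite_iff_isArtinianRing κ F).2 inferInstance

/-- A uniform degree bound for relations among more elements than the fibre dimension. -/
theorem exists_bound (d : ℕ) (hd : ∀ p : PrimeSpectrum R, ringKrullDim (p.asIdeal.Fiber S) ≤ d)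
    {n : ℕ} (hn : d < n) (x : Fin n → S) :
    ∃ N : ℕ, ∀ (k L : Type u) [Field k] [Field L] [Algebra k L] (g : R →+* k) (ψ : S →+* L),
      (∀ r, ψ (algebraMap R S r) = algebraMap k L (g r)) →
      ∃ f : MvPolynomial (Fin n) k, f ≠ 0 ∧ (∀ α ∈ f.support, ∀ i, α i ≤ N) ∧
        MvPolynomial.aeval (fun i => ψ (x i)) f = 0 := by
  classical
  have hloc : ∀ q : PrimeSpectrum S, ∃ (U : Set (PrimeSpectrum S)) (N : ℕ), IsOpen U ∧ q ∈ U ∧
      ∀ M ≥ N, ∀ (k L : Type u) [Field k] [Field L] [Algebra k L] (g : R →+* k) (ψ : S →+* L)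
        (Q : PrimeSpectrum S), (∀ r, ψ (algebraMap R S r) = algebraMap k L (g r)) →
        RingHom.ker ψ = Q.asIdeal → Q ∈ U →
        ∃ f : MvPolynomial (Fin n) k, f ≠ 0 ∧ (∀ α ∈ f.support, ∀ i, α i ≤ M) ∧
          MvPolynomial.aeval (fun i => ψ (x i)) f = 0 := by
    intro q
    let p := q.comap (algebraMap R S)
    haveI : Nontrivial (p.asIdeal.Fiber S) := by
      let Q := PrimeSpectrum.preimageEquivFiber R S p ⟨q, rfl⟩
      exact ⟨⟨0, 1, fun h => Q.2.ne_top ((Ideal.eq_top_iff_one _).2 (h ▸ Q.asIdeal.zero_mem))⟩⟩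
    obtain ⟨s, y, hs, hy⟩ := Groth.FibreDim.exists_quasiFiniteAt_fibre p d (hd p)
    let P := MvPolynomial (Fin s) R
    letI : Algebra P S := (MvPolynomial.aeval (R := R) y).toRingHom.toAlgebra
    haveI : IsScalarTower R P S :=
      IsScalarTower.of_algebraMap_eq fun r => ((MvPolynomial.aeval y).commutes r).symm
    haveI : Algebra.FiniteType P S := .of_restrictScalars_finiteType R _ _
    haveI : Algebra.QuasiFiniteAt P q.asIdeal := hy q rfl
    obtain ⟨r, hr, hint⟩ := Algebra.zariskisMainProperty_iff'.1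
      (Algebra.ZariskisMainProperty.of_finiteType (R := P) q.asIdeal)
    choose m₁ hm₁ using fun j => hint (x j)
    obtain ⟨k₀, hk⟩ := hint r
    rw [← pow_succ] at hk
    have hrint : IsIntegral P r := (IsIntegral.pow_iff (by omega)).1 hk
    let m := Finset.univ.sup m₁
    have hw : ∀ j, IsIntegral P (r ^ m * x j) := fun j => by
      obtain ⟨t, ht⟩ := Nat.exists_eq_add_of_le (Finset.le_sup (f := m₁) (Finset.mem_univ j))
      rw [show m = m₁ j + t from ht, pow_add, mul_comm (r ^ m₁ j), mul_assoc]
      exact (hrint.pow t).mul (hm₁ j)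
    obtain ⟨Ψ, hΨ, hΨr⟩ := hrint
    let z : ℕ → S := fun i => Polynomial.eval₂ (algebraMap P S) r (Polynomial.divX^[i + 1] Ψ)
    have hz : ∀ i, IsIntegral P (z i) := fun i => by
      rw [← mem_integralClosure_iff]
      show Polynomial.aeval r (Polynomial.divX^[i + 1] Ψ) ∈ integralClosure P S
      have : IsIntegral P r := ⟨Ψ, hΨ, hΨr⟩
      exact (show Polynomial.aeval r (Polynomial.divX^[i + 1] Ψ) =
        ((Polynomial.aeval (⟨r, this⟩ : integralClosure P S) (Polynomial.divX^[i + 1] Ψ)) : S) from
        (Polynomial.aeval_algHom_apply (integralClosure P S).val (⟨r, this⟩ : integralClosure P S) _)) ▸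
        (Polynomial.aeval (⟨r, this⟩ : integralClosure P S) (Polynomial.divX^[i + 1] Ψ)).2
    have hu : ∀ i j, IsIntegral P ((-z i) ^ m * (r ^ m * x j)) :=
      fun i j => ((hz i).neg.pow m).mul (hw j)
    choose Φ hΦ hΦ0 using hu
    let I := Finset.range Ψ.natDegree ×ˢ (Finset.univ : Finset (Fin n))
    let e := I.sup fun p => (Φ p.1 p.2).natDegree
    let D := I.sup fun p => (Finset.range ((Φ p.1 p.2).natDegree + 1)).sup
      fun j => ((Φ p.1 p.2).coeff j).totalDegree
    let G := (Finset.range Ψ.natDegree).sup fun i => (Ψ.coeff i ^ m).totalDegree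
    refine ⟨{Q | r ∉ Q.asIdeal}, (n * (D + G) + 1) ^ s * e ^ n, (PrimeSpectrum.basicOpen r).isOpen, hr, ?_⟩
    intro M hM k L _ _ _ g ψ Q hψ hker hQ
    let yL : Fin s → L := fun t => ψ (y t)
    let Ev : P →+* L := MvPolynomial.eval₂Hom ((algebraMap k L).comp g) yL
    have hEv : ∀ f, ψ (algebraMap P S f) = Ev f := fun f => by
      show ψ (MvPolynomial.aeval y f) = _
      rw [MvPolynomial.aeval_def, MvPolynomial.eval₂_comp_left ψ]
      congr 1
      exact RingHom.ext hψ
    have hEv' : Ev = ψ.comp (algebraMap P S) := RingHom.ext fun f => (hEv f).symm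
    have hψr : ψ r ≠ 0 := fun h0 => hQ (hker ▸ h0)
    obtain ⟨i, hi, hγ, hzi⟩ : ∃ i, i < Ψ.natDegree ∧ Ev (Ψ.coeff i) ≠ 0 ∧
        ψ r * ψ (z i) = -Ev (Ψ.coeff i) := by
      let σ : ℕ → L := fun i => Polynomial.eval₂ Ev (ψ r) (Polynomial.divX^[i] Ψ)
      have hco : ∀ (i : ℕ) (Φ : Polynomial P) (j : ℕ), (Polynomial.divX^[i] Φ).coeff j = Φ.coeff (j + i) := by
        intro i
        induction i with
        | zero => simp
        | succ i ih =>
          intro Φ j
          rw [Function.iterate_succ_apply', Polynomial.coeff_divX, ih, add_assoc, add_comm 1 i]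
      have hσ : ∀ i, σ i = ψ r * σ (i + 1) + Ev (Ψ.coeff i) := by
        intro i
        simp only [σ]
        rw [Function.iterate_succ_apply']
        conv_lhs => rw [← Polynomial.X_mul_divX_add (Polynomial.divX^[i] Ψ)]
        rw [Polynomial.eval₂_add, Polynomial.eval₂_mul, Polynomial.eval₂_X, Polynomial.eval₂_C]
        congr 2
        rw [hco, zero_add]
      have hσ0 : σ 0 = 0 := by
        show Polynomial.eval₂ Ev (ψ r) Ψ = 0
        rw [hEv', ← Polynomial.hom_eval₂, hΨr, map_zero]
      have hσN : σ Ψ.natDegree = 1 := by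
        have h1 : Polynomial.divX^[Ψ.natDegree] Ψ = 1 := by
          ext j
          rw [hco, Polynomial.coeff_one]
          cases j with
          | zero => simp [hΨ.coeff_natDegree]
          | succ j => rw [if_neg (by omega), Polynomial.coeff_eq_zero_of_natDegree_lt (by omega)]
        simp only [σ, h1, Polynomial.eval₂_one]
      have hex : ∃ i, i < Ψ.natDegree ∧ Ev (Ψ.coeff i) ≠ 0 := by
        by_contra hcon
        push Not at hcon
        have : ∀ i, i ≤ Ψ.natDegree → σ i = 0 := by
          intro i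
          induction i with
          | zero => exact fun _ => hσ0
          | succ i ih =>
            intro hi
            have h2 := hσ i
            rw [ih (by omega), hcon i (by omega), add_zero, eq_comm] at h2
            exact (mul_eq_zero.1 h2).resolve_left hψr
        exact one_ne_zero (hσN.symm.trans (this _ le_rfl))
      have hzero : ∀ j, j ≤ Nat.find hex → σ j = 0 := by
        intro j
        induction j with
        | zero => exact fun _ => hσ0
        | succ j ih =>
          intro hj
          have h2 := hσ j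
          have h3 : Ev (Ψ.coeff j) = 0 := by
            by_contra hne
            exact Nat.find_min hex (show j < Nat.find hex by omega)
              ⟨by have := (Nat.find_spec hex).1; omega, hne⟩
          rw [ih (by omega), h3, add_zero, eq_comm] at h2
          exact (mul_eq_zero.1 h2).resolve_left hψr
      refine ⟨Nat.find hex, (Nat.find_spec hex).1, (Nat.find_spec hex).2, ?_⟩
      have h2 := hσ (Nat.find hex)
      rw [hzero _ le_rfl, eq_comm, add_eq_zero_iff_eq_neg] at h2
      refine Eq.trans ?_ h2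
      congr 1
      simp only [z, σ]
      rw [Polynomial.hom_eval₂]
      exact congrArg (fun φ => Polynomial.eval₂ φ (ψ r) _) hEv'.symm
    refine exists_bounded_relation yL g (e := e) (D := D) (G := G) (lt_of_le_of_lt hs hn) (fun j => ψ (x j))
      (Φ i) (hΦ i) (fun j => ?_) (fun j l => ?_) (Ψ.coeff i ^ m) ?_ ?_ (fun j => ?_) M hM
    · exact Finset.le_sup (f := fun p : ℕ × Fin n => (Φ p.1 p.2).natDegree) (b := (i, j))
        (Finset.mem_product.2 ⟨Finset.mem_range.2 hi, Finset.mem_univ j⟩)
    · refine le_trans ?_ (Finset.le_sup (f := fun p : ℕ × Fin n =>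
          (Finset.range ((Φ p.1 p.2).natDegree + 1)).sup fun j => ((Φ p.1 p.2).coeff j).totalDegree) (b := (i, j))
        (Finset.mem_product.2 ⟨Finset.mem_range.2 hi, Finset.mem_univ j⟩))
      show _ ≤ (Finset.range ((Φ i j).natDegree + 1)).sup fun l => ((Φ i j).coeff l).totalDegree
      by_cases hl : l ≤ (Φ i j).natDegree
      · exact Finset.le_sup (f := fun l => ((Φ i j).coeff l).totalDegree) (Finset.mem_range.2 (by omega))
      · rw [Polynomial.coeff_eq_zero_of_natDegree_lt (by omega), MvPolynomial.totalDegree_zero]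
        exact Nat.zero_le _
    · exact Finset.le_sup (f := fun i => (Ψ.coeff i ^ m).totalDegree) (Finset.mem_range.2 hi)
    · rw [map_pow]
      exact pow_ne_zero _ hγ
    · have h1 : Ev (Ψ.coeff i ^ m) * ψ (x j) = ψ ((-z i) ^ m * (r ^ m * x j)) := by
        rw [map_pow, ← neg_neg (Ev (Ψ.coeff i)), ← hzi]
        simp only [map_mul, map_pow, map_neg]
        ring
      show Polynomial.eval₂ Ev (Ev (Ψ.coeff i ^ m) * ψ (x j)) (Φ i j) = 0
      rw [h1, hEv', ← Polynomial.hom_eval₂, hΦ0, map_zero]
  choose U N hUo hqU hN using hloc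
  obtain ⟨t, ht⟩ := isCompact_univ.elim_finite_subcover U hUo fun q _ => Set.mem_iUnion.2 ⟨q, hqU q⟩
  refine ⟨t.sup N, fun k L _ _ _ g ψ hψ => ?_⟩
  obtain ⟨q, hq, hQ⟩ := Set.mem_iUnion₂.1
    (ht (Set.mem_univ (⟨RingHom.ker ψ, RingHom.ker_isPrime ψ⟩ : PrimeSpectrum S)))
  exact hN q _ (Finset.le_sup (f := N) hq) k L g ψ _ hψ rfl hQ

/-- One step: drop a coordinate. -/
theorem exists_algOver_pred (d : ℕ) (hd : ∀ p : PrimeSpectrum R, ringKrullDim (p.asIdeal.Fiber S) ≤ d)
    {n : ℕ} (hn : d < n + 1) (x : Fin (n + 1) → S) (hx : AlgOver R x) :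
    ∃ x' : Fin n → S, AlgOver R x' := by
  obtain ⟨N, hN⟩ := exists_bound d hd hn x
  refine ⟨fun j => x j.succ - x 0 ^ (N + 1) ^ ((j.succ : Fin (n + 1)) : ℕ), ?_⟩
  intro k L _ _ _ g ψ hψ c
  obtain ⟨f, hf, hdeg, h0⟩ := hN k L g ψ hψ
  have hx0 := isAlgebraic_transform (fun i => ψ (x i)) f hf hdeg h0
  rw [show (fun j : Fin n => ψ (x j.succ - x 0 ^ (N + 1) ^ ((j.succ : Fin (n + 1)) : ℕ))) =
    (fun j : Fin n => ψ (x j.succ) - ψ (x 0) ^ (N + 1) ^ ((j.succ : Fin (n + 1)) : ℕ)) from
      funext fun j => by rw [map_sub, map_pow]]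
  set K' := IntermediateField.adjoin k
    (Set.range fun j : Fin n => ψ (x j.succ) - ψ (x 0) ^ (N + 1) ^ ((j.succ : Fin (n + 1)) : ℕ))
  let A := algebraicClosure K' L
  have hA : ∀ w ∈ IntermediateField.adjoin k (Set.range fun i => ψ (x i)), w ∈ A := by
    intro w hw
    induction hw using IntermediateField.adjoin_induction with
    | mem w hw =>
      obtain ⟨i, rfl⟩ := hw
      induction i using Fin.cases with
      | zero => exact mem_algebraicClosure_iff.2 hx0
      | succ j =>
        have h1 : ψ (x j.succ) - ψ (x 0) ^ (N + 1) ^ ((j.succ : Fin (n + 1)) : ℕ) ∈ A :=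
          A.algebraMap_mem (⟨_, IntermediateField.subset_adjoin _ _ ⟨j, rfl⟩⟩ : K')
        have h2 : ψ (x 0) ^ (N + 1) ^ ((j.succ : Fin (n + 1)) : ℕ) ∈ A :=
          pow_mem (mem_algebraicClosure_iff.2 hx0) _
        simpa using add_mem h1 h2
    | algebraMap c => exact A.algebraMap_mem (algebraMap k K' c)
    | add a b _ _ ha hb => exact add_mem ha hb
    | inv a _ ha => exact inv_mem ha
    | mul a b _ _ ha hb => exact mul_mem ha hb
  obtain ⟨P, hP0, hP⟩ := hx k L g ψ hψ c
  let j : IntermediateField.adjoin k (Set.range fun i => ψ (x i)) →+* A :=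
    (SubringClass.subtype (IntermediateField.adjoin k (Set.range fun i => ψ (x i)))).codRestrict A fun w => hA w w.2
  have hc : IsAlgebraic A (ψ c) := ⟨P.map j, (Polynomial.map_ne_zero_iff j.injective).2 hP0, by
    rw [Polynomial.aeval_def, Polynomial.eval₂_map]; exact hP⟩
  exact hc.restrictScalars K'

/-- **Weak relative Noether normalization.** -/
theorem exists_quasiFinite (d : ℕ) (hd : ∀ p : PrimeSpectrum R, ringKrullDim (p.asIdeal.Fiber S) ≤ d) :
    ∃ φ : MvPolynomial (Fin d) R →ₐ[R] S, φ.toRingHom.QuasiFinite := by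
  obtain ⟨n₀, f, hf⟩ := Algebra.FiniteType.iff_quotient_mvPolynomial''.mp ‹Algebra.FiniteType R S›
  suffices h : ∀ n (x : Fin n → S), AlgOver R x → ∃ x' : Fin d → S, AlgOver R x' by
    obtain ⟨x', hx'⟩ := h n₀ (fun i => f (MvPolynomial.X i)) (algOver_of_adjoin_eq_top _ (by
      rw [Algebra.adjoin_range_eq_range_aeval, eq_top_iff]
      intro c _
      obtain ⟨p, rfl⟩ := hf c
      exact ⟨p, (DFunLike.congr_fun (MvPolynomial.aeval_unique f) p).symm⟩))
    exact ⟨_, quasiFinite_of_algOver x' hx'⟩
  intro n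
  induction n with
  | zero => exact fun x hx => ⟨_, algOver_pad x hx (Nat.zero_le d)⟩
  | succ n ih =>
    intro x hx
    rcases le_or_gt (n + 1) d with h | h
    · exact ⟨_, algOver_pad x hx h⟩
    · obtain ⟨x', hx'⟩ := exists_algOver_pred d hd h x hx
      exact ih x' hx'

end Groth.FlatMor2.RelNoether
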